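import Cfsg.Agent.Lib.Helper93.M11U.Defs
import Cfsg.Agent.S0426

/-!
# S0420 package [EMBED]: a group of order 7920 acting sharply 4-transitively on 11 points and
preserving a Steiner system `S(4, 5, 11)` is the full automorphism group of the system
-/

set_option autoImplicit false

open scoped Pointwise

namespace Cfsg.Agent.Lib.Helper67.M11U

universe u

theorem pkgEmbed : Cfsg.Agent.Lib.Helper93.M11U.PkgEmbed.{u} := by
  intro G _ _ Ω _ _ _ B hG hΩ hs hB hinv
  have hinj : Function.Injective (MulAction.toPermHom G Ω) := by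
    intro g k hgk
    have hq : ∀ q : Ω, g • q = k • q := fun q => Equiv.congr_fun hgk q
    obtain ⟨x⟩ : Nonempty (Fin 4 ↪ Ω) :=
      Function.Embedding.nonempty_of_card_le (by rw [Fintype.card_fin, hΩ]; norm_num)
    obtain ⟨g0, -, huniq⟩ := hs x x
    have e1 : g⁻¹ * k = g0 := huniq _ (fun i => by rw [mul_smul, ← hq, inv_smul_smul])
    have e2 : (1 : G) = g0 := huniq _ (fun i => one_smul _ _)
    have e3 : g⁻¹ * k = 1 := e1.trans e2.symm
    exact (inv_mul_eq_one.mp e3)
  have hmem : ∀ g : G, MulAction.toPermHom G Ω g ∈ Cfsg.setSystemAut B := by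
    intro g
    rw [MulAction.mem_stabilizer_set_iff_smul_set_subset (Set.toFinite B)]
    rintro _ ⟨b, hb, rfl⟩
    have h1 := hinv g b hb
    have h2 : b.map (MulAction.toPerm g).toEmbedding = MulAction.toPermHom G Ω g • b := by
      rw [Finset.map_eq_image]
      rfl
    rw [h2] at h1
    exact h1
  let φ : G →* ↥(Cfsg.setSystemAut B) := (MulAction.toPermHom G Ω).codRestrict _ hmem
  have hφ : Function.Injective φ := by
    intro g k hgk
    exact hinj (congrArg Subtype.val hgk)
  have hcard : Nat.card ↥(Cfsg.setSystemAut B) = 7920 := (Cfsg.Agent.S0426.result hΩ hB).1.2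
  have hbij : Function.Bijective φ :=
    (Nat.bijective_iff_injective_and_card φ).mpr ⟨hφ, hG.trans hcard.symm⟩
  exact ⟨MulEquiv.ofBijective φ hbij⟩

example : Cfsg.Agent.Lib.Helper93.M11U.PkgEmbed.{3} := pkgEmbed
example : Cfsg.Agent.Lib.Helper93.M11U.PkgEmbed.{0} := pkgEmbed

end Cfsg.Agent.Lib.Helper67.M11U
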