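import Mathlib
import Cfsg.Agent.Lib.Helper93.M11U.Defs

/-!
# S0420 package [F20], core: the sum of a class function over the normalizer `F ⋊ ⟨u⟩` of a
subgroup `F` of order 5, from the values at the elements of orders 1, 2, 5
-/

set_option autoImplicit false

namespace Cfsg.Agent.Lib.Helper67.M11U

open Cfsg.Agent.Lib.Helper93.M11U

universe u

section
variable {G : Type u} [Group G]

/-- the sum over a subgroup along a parametrisation -/
theorem sumOn_param [Finite G] {α : Type*} [Fintype α] (χ : G → ℂ) (S : Subgroup G) (e : α → G)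
    (hmem : ∀ a, e a ∈ S) (hinj : Function.Injective e) (hcard : Fintype.card α = Nat.card S) :
    sumOn χ S = ∑ a, χ (e a) := by
  classical
  have : Fintype S := Fintype.ofFinite S
  let e' : α → S := fun a => ⟨e a, hmem a⟩
  have hbij : Function.Bijective e' := by
    rw [Fintype.bijective_iff_injective_and_card]
    refine ⟨fun a b hab => hinj (congrArg Subtype.val hab), ?_⟩
    rw [hcard, Nat.card_eq_fintype_card]
  have h1 : ∑ᶠ a, χ (e a) = ∑ᶠ h : S, χ (h : G) :=
    finsum_eq_of_bijective e' hbij (fun a => rfl)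
  unfold sumOn
  rw [← h1, finsum_eq_sum_of_fintype]

/-- `sumOn` as a sum over the whole group -/
theorem sumOn_eq_sum_ite [Fintype G] [DecidableEq G] (χ : G → ℂ) (H : Subgroup G)
    [DecidablePred (· ∈ H)] : sumOn χ H = ∑ g : G, if g ∈ H then χ g else 0 := by
  unfold sumOn
  rw [finsum_eq_sum_of_fintype, ← Finset.sum_filter]
  exact (Finset.sum_subtype (Finset.univ.filter (· ∈ H)) (by simp) χ).symm

/-- the sum over a subgroup `D` from the sum over `F ≤ D` when `χ` is constant on `D \ F` -/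
theorem sumOn_layer [Finite G] (χ : G → ℂ) {F D : Subgroup G} (hFD : F ≤ D) (c : ℂ)
    (hc : ∀ h ∈ D, h ∉ F → χ h = c) :
    sumOn χ D = sumOn χ F + ((Nat.card D : ℂ) - (Nat.card F : ℂ)) * c := by
  classical
  have := Fintype.ofFinite G
  have hcard : ∀ H : Subgroup G, (Nat.card H : ℂ) = ∑ g : G, if g ∈ H then (1 : ℂ) else 0 := by
    intro H
    rw [Nat.card_eq_fintype_card, Fintype.card_subtype, Finset.sum_boole]
  rw [sumOn_eq_sum_ite χ D, sumOn_eq_sum_ite χ F, hcard D, hcard F, ← Finset.sum_sub_distrib,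
    Finset.sum_mul, ← Finset.sum_add_distrib]
  apply Finset.sum_congr rfl
  intro g _
  by_cases hD : g ∈ D
  · by_cases hF : g ∈ F
    · simp [hD, hF]
    · simp [hD, hF, hc g hD hF]
  · have hF : g ∉ F := fun h => hD (hFD h)
    simp [hD, hF]

/-- if `w` normalizes the finite subgroup `F` and no nontrivial element of `F` commutes with
`w`, then every element of the coset `F w` is conjugate to `w` under `F` -/
theorem coset_conj (F : Subgroup G) [Finite F] (w : G) (hn : ∀ x ∈ F, w * x * w⁻¹ ∈ F)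
    (hc : ∀ x ∈ F, x * w = w * x → x = 1) {y : G} (hy : y ∈ F) :
    ∃ x ∈ F, x * w * x⁻¹ = y * w := by
  let ψ : F → F := fun x => ⟨(x : G) * w * (x : G)⁻¹ * w⁻¹, by
    have h1 := hn _ (F.inv_mem x.2)
    have h2 := F.mul_mem x.2 h1
    have h3 : (x : G) * w * (x : G)⁻¹ * w⁻¹ = (x : G) * (w * (x : G)⁻¹ * w⁻¹) := by group
    rw [h3]
    exact h2⟩
  have hinj : Function.Injective ψ := by
    intro x x' hxx
    have h1 : (x : G) * w * (x : G)⁻¹ * w⁻¹ = (x' : G) * w * (x' : G)⁻¹ * w⁻¹ :=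
      congrArg Subtype.val hxx
    have h2 : (x : G) * w * (x : G)⁻¹ = (x' : G) * w * (x' : G)⁻¹ := mul_right_cancel h1
    have h3 : ((x' : G)⁻¹ * (x : G)) * w = w * ((x' : G)⁻¹ * (x : G)) := by
      have h4 : (x' : G)⁻¹ * ((x : G) * w * (x : G)⁻¹) * (x : G) =
          (x' : G)⁻¹ * ((x' : G) * w * (x' : G)⁻¹) * (x : G) := by rw [h2]
      simpa [mul_assoc] using h4
    have h4 := hc _ (F.mul_mem (F.inv_mem x'.2) x.2) h3
    exact Subtype.ext (inv_mul_eq_one.mp h4).symm
  obtain ⟨x, hx⟩ := (Finite.injective_iff_surjective.mp hinj) ⟨y, hy⟩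
  refine ⟨x, x.2, ?_⟩
  have h1 : (x : G) * w * (x : G)⁻¹ * w⁻¹ = y := congrArg Subtype.val hx
  rw [← h1]
  group

theorem f20_core [Finite G] (χ : G → ℂ) (hcf : ∀ g h : G, χ (h * g * h⁻¹) = χ g)
    (hFD : ∃ d : Subgroup G → ℕ,
      (∀ H : Subgroup G, sumOn χ H = (Nat.card H : ℂ) * (d H : ℂ)) ∧
      ∀ H H' : Subgroup G, H ≤ H' → d H' ≤ d H)
    (f u s : G) (hf : orderOf f = 5) (hu : orderOf u = 4)
    (hun : u * f * u⁻¹ ∈ Subgroup.zpowers f)
    (hcent : ∀ w : G, w * f = f * w → w ∈ Subgroup.zpowers f)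
    (hN : Nat.card (Subgroup.normalizer (Subgroup.zpowers f : Set G)) = 20)
    (Y : Subgroup G) (hNY : Subgroup.normalizer (Subgroup.zpowers f : Set G) ≤ Y)
    (hYc : Nat.card Y = 120) (hYs : sumOn χ Y = 120)
    (hs : orderOf s = 2) (hsu : s * u * s⁻¹ = u⁻¹)
    (h1 : χ 1 = 10) (h2 : ∀ t : G, orderOf t = 2 → χ t = 2)
    (h5 : ∀ z : G, orderOf z = 5 → χ z = 0) :
    sumOn χ (Subgroup.normalizer (Subgroup.zpowers f : Set G)) = 40 := by
  classical
  obtain ⟨F, hFdef⟩ : ∃ F : Subgroup G, F = Subgroup.zpowers f := ⟨_, rfl⟩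
  obtain ⟨Z, hZdef⟩ : ∃ Z : Subgroup G, Z = Subgroup.zpowers u := ⟨_, rfl⟩
  rw [← hFdef] at hun hcent hN hNY ⊢
  obtain ⟨N, hNdef⟩ : ∃ N : Subgroup G, N = Subgroup.normalizer (F : Set G) := ⟨_, rfl⟩
  rw [← hNdef] at hN hNY ⊢
  have hFc : Nat.card F = 5 := by rw [hFdef, Nat.card_zpowers, hf]
  have hZc : Nat.card Z = 4 := by rw [hZdef, Nat.card_zpowers, hu]
  have hfF : f ∈ F := by rw [hFdef]; exact Subgroup.mem_zpowers f
  have huZ : u ∈ Z := by rw [hZdef]; exact Subgroup.mem_zpowers u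
  have hu4 : u ^ 4 = 1 := by rw [← hu]; exact pow_orderOf_eq_one u
  -- conjugation by `u` maps `F` into `F`
  have hconj : ∀ x ∈ F, u * x * u⁻¹ ∈ F := by
    intro x hx
    rw [hFdef] at hx
    obtain ⟨k, rfl⟩ := Subgroup.mem_zpowers_iff.mp hx
    have e : u * f ^ k * u⁻¹ = (u * f * u⁻¹) ^ k := (conj_zpow).symm
    rw [e]
    exact F.zpow_mem hun k
  have hconjpow : ∀ (j : ℕ), ∀ x ∈ F, u ^ j * x * (u ^ j)⁻¹ ∈ F := by
    intro j
    induction j with
    | zero => intro x hx; simpa using hx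
    | succ j ih =>
      intro x hx
      have h' := hconj _ (ih x hx)
      have e : u ^ (j + 1) * x * (u ^ (j + 1))⁻¹ = u * (u ^ j * x * (u ^ j)⁻¹) * u⁻¹ := by
        rw [pow_succ']; group
      rw [e]
      exact h'
  have huN : u ∈ N := by
    rw [hNdef, Subgroup.mem_normalizer_iff]
    intro x
    constructor
    · exact hconj x
    · intro hx
      have h' := hconjpow 3 _ hx
      have h3 : u ^ 3 * u = 1 := by rw [← pow_succ]; exact hu4
      have e : u ^ 3 * (u * x * u⁻¹) * (u ^ 3)⁻¹ = x := by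
        calc u ^ 3 * (u * x * u⁻¹) * (u ^ 3)⁻¹ = (u ^ 3 * u) * x * (u ^ 3 * u)⁻¹ := by group
          _ = x := by rw [h3]; simp
      rwa [e] at h'
  have hFN : F ≤ N := by rw [hNdef]; exact Subgroup.le_normalizer
  have hfN : f ∈ N := hFN hfF
  have hFZ : F ⊓ Z = ⊥ :=
    (Subgroup.disjoint_of_coprime_natCard (by rw [hFc, hZc]; norm_num)).eq_bot
  have hFZ1 : ∀ w, w ∈ F → w ∈ Z → w = 1 := by
    intro w hw1 hw2
    have hw : w ∈ F ⊓ Z := ⟨hw1, hw2⟩
    rw [hFZ] at hw
    exact Subgroup.mem_bot.mp hw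
  -- parametrisation of `N`
  have hNsum : sumOn χ N = ∑ p : Fin 5 × Fin 4, χ (f ^ (p.1 : ℕ) * u ^ (p.2 : ℕ)) := by
    apply sumOn_param χ N (fun p : Fin 5 × Fin 4 => f ^ (p.1 : ℕ) * u ^ (p.2 : ℕ))
    · intro p
      exact N.mul_mem (N.pow_mem hfN _) (N.pow_mem huN _)
    · rintro ⟨i, j⟩ ⟨i', j'⟩ h
      simp only at h
      have hw : (f ^ (i' : ℕ))⁻¹ * f ^ (i : ℕ) = u ^ (j' : ℕ) * (u ^ (j : ℕ))⁻¹ := by
        rw [inv_mul_eq_iff_eq_mul, ← mul_assoc, eq_mul_inv_iff_mul_eq]
        exact h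
      have hw1 : (f ^ (i' : ℕ))⁻¹ * f ^ (i : ℕ) = 1 :=
        hFZ1 _ (F.mul_mem (F.inv_mem (F.pow_mem hfF _)) (F.pow_mem hfF _))
          (hw ▸ Z.mul_mem (Z.pow_mem huZ _) (Z.inv_mem (Z.pow_mem huZ _)))
      have hw2 : u ^ (j' : ℕ) * (u ^ (j : ℕ))⁻¹ = 1 := hw ▸ hw1
      have e1 : f ^ (i : ℕ) = f ^ (i' : ℕ) := (inv_mul_eq_one.mp hw1).symm
      have e2 : u ^ (j' : ℕ) = u ^ (j : ℕ) := mul_inv_eq_one.mp hw2
      have hi : (i : ℕ) = i' :=
        pow_injOn_Iio_orderOf (by rw [hf]; exact i.2) (by rw [hf]; exact i'.2) e1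
      have hj : (j' : ℕ) = j :=
        pow_injOn_Iio_orderOf (by rw [hu]; exact j'.2) (by rw [hu]; exact j.2) e2
      exact Prod.ext (Fin.ext hi) (Fin.ext hj.symm)
    · rw [hN]; simp
  obtain ⟨d, hd, hanti⟩ := hFD
  -- values on the cosets `F u^j`
  have hval : ∀ j : ℕ, 0 < j → j < 4 → ∀ y ∈ F, χ (y * u ^ j) = χ (u ^ j) := by
    intro j hj0 hj4 y hy
    have hwF : u ^ j ∉ F := by
      intro hw
      have hw1 := hFZ1 _ hw (Z.pow_mem huZ j)
      exact pow_ne_one_of_lt_orderOf hj0.ne' (by rw [hu]; exact hj4) hw1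
    have hc : ∀ x ∈ F, x * u ^ j = u ^ j * x → x = 1 := by
      intro x hx hcomm
      by_contra hx1
      have hox : orderOf x = 5 := by
        have hdvd : orderOf x ∣ 5 := by
          have h' := orderOf_dvd_natCard (⟨x, hx⟩ : F)
          rw [hFc] at h'
          rwa [Subgroup.orderOf_mk] at h'
        rcases (Nat.dvd_prime (by norm_num : Nat.Prime 5)).mp hdvd with h | h
        · exact absurd (orderOf_eq_one_iff.mp h) hx1
        · exact h
      have hzx : Subgroup.zpowers x = F := by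
        apply Subgroup.eq_of_le_of_card_ge
        · exact (Subgroup.zpowers_le).mpr hx
        · rw [Nat.card_zpowers, hox, hFc]
      have hfx : f ∈ Subgroup.zpowers x := by rw [hzx]; exact hfF
      obtain ⟨k, hk⟩ := Subgroup.mem_zpowers_iff.mp hfx
      apply hwF
      apply hcent
      rw [← hk]
      exact ((show Commute x (u ^ j) from hcomm).zpow_left k).eq.symm
    obtain ⟨x, hx, hxe⟩ := coset_conj F (u ^ j) (hconjpow j) hc hy
    rw [← hxe, hcf]
  obtain ⟨a, ha⟩ : ∃ a, χ u = a := ⟨_, rfl⟩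
  have hu2 : χ (u ^ 2) = 2 := by
    apply h2
    rw [orderOf_pow' u (by norm_num), hu]
    rfl
  have hu3 : χ (u ^ 3) = a := by
    have e : u ^ 3 = s * u * s⁻¹ := by
      rw [hsu]
      exact eq_inv_of_mul_eq_one_left (by rw [← pow_succ]; exact hu4)
    rw [e, hcf, ha]
  have hfi : ∀ i : ℕ, 0 < i → i < 5 → χ (f ^ i) = 0 := by
    intro i hi0 hi5
    apply h5
    rw [Nat.Coprime.orderOf_pow, hf]
    rw [hf]
    exact (Nat.Prime.coprime_iff_not_dvd (by norm_num)).mpr
      (fun h => by have := Nat.le_of_dvd hi0 h; omega)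
  have inner : ∀ i : ℕ, ∑ j : Fin 4, χ (f ^ i * u ^ (j : ℕ)) = χ (f ^ i) + a + 2 + a := by
    intro i
    rw [Fin.sum_univ_eq_sum_range (fun j => χ (f ^ i * u ^ j)) 4]
    simp only [Finset.sum_range_succ, Finset.sum_range_zero, zero_add]
    rw [pow_zero, mul_one, hval 1 (by norm_num) (by norm_num) _ (F.pow_mem hfF i),
      hval 2 (by norm_num) (by norm_num) _ (F.pow_mem hfF i),
      hval 3 (by norm_num) (by norm_num) _ (F.pow_mem hfF i), pow_one, ha, hu2, hu3]
  have hNval : sumOn χ N = 20 + 10 * a := by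
    rw [hNsum, Fintype.sum_prod_type]
    simp only [inner]
    rw [Fin.sum_univ_eq_sum_range (fun i => χ (f ^ i) + a + 2 + a) 5]
    simp only [Finset.sum_range_succ, Finset.sum_range_zero, zero_add]
    rw [pow_zero, h1, hfi 1 (by norm_num) (by norm_num), hfi 2 (by norm_num) (by norm_num),
      hfi 3 (by norm_num) (by norm_num), hfi 4 (by norm_num) (by norm_num)]
    ring
  have hdY : d Y = 1 := by
    have h' := hd Y
    rw [hYs, hYc] at h'
    have h'' : (120 : ℕ) = 120 * d Y := by exact_mod_cast h'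
    omega
  have hFsum : sumOn χ F = 10 := by
    rw [sumOn_param χ F (fun i : Fin 5 => f ^ (i : ℕ)) (fun i => F.pow_mem hfF _)
      (fun i i' h => Fin.ext (pow_injOn_Iio_orderOf (by rw [hf]; exact i.2)
        (by rw [hf]; exact i'.2) h)) (by rw [hFc]; simp)]
    rw [Fin.sum_univ_eq_sum_range (fun i => χ (f ^ i)) 5]
    simp only [Finset.sum_range_succ, Finset.sum_range_zero, zero_add]
    rw [pow_zero, h1, hfi 1 (by norm_num) (by norm_num), hfi 2 (by norm_num) (by norm_num),
      hfi 3 (by norm_num) (by norm_num), hfi 4 (by norm_num) (by norm_num)]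
    norm_num
  have hdF : d F = 2 := by
    have h' := hd F
    rw [hFsum, hFc] at h'
    have h'' : (10 : ℕ) = 5 * d F := by exact_mod_cast h'
    omega
  have hdN1 : 1 ≤ d N := hdY ▸ hanti N Y hNY
  have hdN2 : d N ≤ 2 := hdF ▸ hanti F N hFN
  have hNeq : (20 : ℂ) + 10 * a = 20 * (d N : ℂ) := by
    have h' := hd N
    rw [hNval, hN] at h'
    simpa using h'
  have ha02 : a = 0 ∨ a = 2 := by
    have hcases : d N = 1 ∨ d N = 2 := by omega
    rcases hcases with h | h
    · left
      rw [h] at hNeq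
      simp only [Nat.cast_one] at hNeq
      have h10 : (10 : ℂ) * a = 0 := by linear_combination hNeq
      simpa using h10
    · right
      rw [h] at hNeq
      simp only [Nat.cast_ofNat] at hNeq
      linear_combination hNeq / 10
  -- the dihedral group `⟨u, s⟩` excludes `a = 0`
  have ha0 : a ≠ 0 := by
    intro ha0
    obtain ⟨S, hSdef⟩ : ∃ S : Subgroup G, S = Subgroup.zpowers s := ⟨_, rfl⟩
    obtain ⟨D, hDdef⟩ : ∃ D : Subgroup G, D = Z ⊔ S := ⟨_, rfl⟩
    have hs2 : s * s = 1 := by rw [← pow_two, ← hs]; exact pow_orderOf_eq_one s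
    have hsS : s ∈ S := by rw [hSdef]; exact Subgroup.mem_zpowers s
    have hsinv : s⁻¹ = s := inv_eq_of_mul_eq_one_left hs2
    have hsZ : s ∉ Z := by
      intro h
      rw [hZdef] at h
      obtain ⟨k, hk⟩ := Subgroup.mem_zpowers_iff.mp h
      have hc : s * u = u * s := by
        rw [← hk]
        exact ((Commute.refl u).zpow_left k).eq
      have h' : s * u * s⁻¹ = u := by rw [hc, mul_inv_cancel_right]
      rw [hsu] at h'
      have hu2' : u ^ 2 = 1 := by
        rw [pow_two]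
        nth_rewrite 1 [← h']
        exact inv_mul_cancel u
      exact pow_ne_one_of_lt_orderOf (by norm_num) (by rw [hu]; norm_num) hu2'
    have hsz : ∀ z ∈ Z, s * z * s⁻¹ = z⁻¹ := by
      intro z hz
      rw [hZdef] at hz
      obtain ⟨k, rfl⟩ := Subgroup.mem_zpowers_iff.mp hz
      have e : s * u ^ k * s⁻¹ = (s * u * s⁻¹) ^ k := (conj_zpow).symm
      rw [e, hsu, inv_zpow]
    have hSn : S ≤ Subgroup.normalizer (Z : Set G) := by
      rw [hSdef, Subgroup.zpowers_le, Subgroup.mem_normalizer_iff]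
      intro z
      constructor
      · intro hz
        rw [hsz z hz]
        exact Z.inv_mem hz
      · intro hz
        have h' := hsz _ hz
        have e : s * (s * z * s⁻¹) * s⁻¹ = z := by
          calc s * (s * z * s⁻¹) * s⁻¹ = (s * s) * z * (s * s)⁻¹ := by group
            _ = z := by rw [hs2]; simp
        rw [e] at h'
        rw [h']
        exact Z.inv_mem hz
    have hDel : ∀ h ∈ D, h ∉ Z → χ h = 2 := by
      intro h hD hZ
      have hmem : h ∈ ((Z ⊔ S : Subgroup G) : Set G) := by rw [← hDdef]; exact hD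
      rw [Subgroup.coe_mul_of_right_le_normalizer_left Z S hSn] at hmem
      obtain ⟨z, hz, t, ht, rfl⟩ := Set.mem_mul.mp hmem
      have ht' : t = 1 ∨ t = s := by
        have ht2 : t ∈ Subgroup.zpowers s := by rw [← hSdef]; exact ht
        obtain ⟨k, rfl⟩ := Subgroup.mem_zpowers_iff.mp ht2
        rw [← zpow_mod_orderOf, hs]
        rcases Int.emod_two_eq_zero_or_one k with h | h
        · left
          rw [show k % ((2 : ℕ) : ℤ) = 0 from h, zpow_zero]
        · right
          rw [show k % ((2 : ℕ) : ℤ) = 1 from h, zpow_one]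
      rcases ht' with rfl | rfl
      · exact absurd (by simpa using hz) hZ
      · apply h2
        have hsq : (z * t) * (z * t) = 1 := by
          calc z * t * (z * t) = z * (t * z * t⁻¹) * (t * t) := by group
            _ = 1 := by rw [hsz z hz, hs2]; group
        have hne : z * t ≠ 1 := by
          intro h1'
          have : t = z⁻¹ := eq_inv_of_mul_eq_one_right h1'
          exact hsZ (this ▸ Z.inv_mem hz)
        exact orderOf_eq_prime (by rw [pow_two]; exact hsq) hne
    have hZD : Z ≤ D := by rw [hDdef]; exact le_sup_left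
    have hsD : s ∈ D := by rw [hDdef]; exact (le_sup_right : S ≤ Z ⊔ S) hsS
    have hDc : 4 < Nat.card D := by
      by_contra hle
      have hZD' : Z = D := Subgroup.eq_of_le_of_card_ge hZD (by rw [hZc]; omega)
      exact hsZ (hZD' ▸ hsD)
    have hZsum : sumOn χ Z = 12 := by
      rw [sumOn_param χ Z (fun i : Fin 4 => u ^ (i : ℕ)) (fun i => Z.pow_mem huZ _)
        (fun i i' h => Fin.ext (pow_injOn_Iio_orderOf (by rw [hu]; exact i.2)
          (by rw [hu]; exact i'.2) h)) (by rw [hZc]; simp)]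
      rw [Fin.sum_univ_eq_sum_range (fun i => χ (u ^ i)) 4]
      simp only [Finset.sum_range_succ, Finset.sum_range_zero, zero_add]
      rw [pow_zero, h1, pow_one, hu2, hu3, ha, ha0]
      norm_num
    have hDsum := sumOn_layer χ hZD 2 hDel
    rw [hZsum, hZc, hd D] at hDsum
    have hnat : Nat.card D * d D = 2 * Nat.card D + 4 := by
      have h' : ((Nat.card D * d D : ℕ) : ℂ) = ((2 * Nat.card D + 4 : ℕ) : ℂ) := by
        push_cast
        rw [hDsum]
        push_cast
        ring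
      exact_mod_cast h'
    rcases Nat.lt_or_ge (d D) 3 with h | h
    · nlinarith
    · nlinarith
  rcases ha02 with h | h
  · exact absurd h ha0
  · rw [hNval, h]
    norm_num

end

end Cfsg.Agent.Lib.Helper67.M11U
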