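import Mathlib

/-!
# S0420 package [STEINER], part 1: elementwise lemmas on a sharply 4-transitive group in which
elements of order 3 fix exactly two points
-/

set_option autoImplicit false

namespace Cfsg.Agent.Lib.Helper67.M11U

universe u

section
variable {G : Type u} [Group G] {Ω : Type u} [MulAction G Ω]

/-- four pairwise distinct points -/
def D4 (a b c d : Ω) : Prop := a ≠ b ∧ a ≠ c ∧ a ≠ d ∧ b ≠ c ∧ b ≠ d ∧ c ≠ d

/-- the embedding of four distinct points -/
def emb4 (a b c d : Ω) (h : D4 a b c d) : Fin 4 ↪ Ω :=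
  ⟨![a, b, c, d], by
    obtain ⟨h1, h2, h3, h4, h5, h6⟩ := h
    intro i j hij
    fin_cases i <;> fin_cases j <;> first
      | rfl
      | exact absurd hij h1 | exact absurd hij.symm h1
      | exact absurd hij h2 | exact absurd hij.symm h2
      | exact absurd hij h3 | exact absurd hij.symm h3
      | exact absurd hij h4 | exact absurd hij.symm h4
      | exact absurd hij h5 | exact absurd hij.symm h5
      | exact absurd hij h6 | exact absurd hij.symm h6⟩

/-- sharp 4-transitivity -/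
def Sharp (G : Type u) [Group G] (Ω : Type u) [MulAction G Ω] : Prop :=
  ∀ x y : Fin 4 ↪ Ω, ∃! g : G, ∀ i, g • x i = y i

/-- elements of order three fix exactly two points -/
def Three (G : Type u) [Group G] (Ω : Type u) [MulAction G Ω] : Prop :=
  ∀ x : G, orderOf x = 3 → Nat.card {q : Ω // x • q = q} = 2

theorem sharp_ex (hs : Sharp G Ω) {a b c d a' b' c' d' : Ω} (h : D4 a b c d)
    (h' : D4 a' b' c' d') : ∃ g : G, g • a = a' ∧ g • b = b' ∧ g • c = c' ∧ g • d = d' := by
  obtain ⟨g, hg, -⟩ := hs (emb4 a b c d h) (emb4 a' b' c' d' h')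
  exact ⟨g, hg 0, hg 1, hg 2, hg 3⟩

theorem sharp_uniq (hs : Sharp G Ω) {a b c d : Ω} (h : D4 a b c d) {g k : G}
    (ha : g • a = k • a) (hb : g • b = k • b) (hc : g • c = k • c) (hd : g • d = k • d) :
    g = k := by
  have h' : D4 (k • a) (k • b) (k • c) (k • d) := by
    obtain ⟨h1, h2, h3, h4, h5, h6⟩ := h
    exact ⟨fun e => h1 (MulAction.injective k e), fun e => h2 (MulAction.injective k e),
      fun e => h3 (MulAction.injective k e), fun e => h4 (MulAction.injective k e),
      fun e => h5 (MulAction.injective k e), fun e => h6 (MulAction.injective k e)⟩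
  obtain ⟨g0, -, huniq⟩ := hs (emb4 a b c d h) (emb4 _ _ _ _ h')
  have e1 : g = g0 := huniq g (by
    intro i
    fin_cases i
    · exact ha
    · exact hb
    · exact hc
    · exact hd)
  have e2 : k = g0 := huniq k (by
    intro i
    fin_cases i <;> rfl)
  rw [e1, e2]

theorem fix3 (hthree : Three G Ω) {x : G} (hx : orderOf x = 3) {q1 q2 q3 : Ω}
    (h1 : x • q1 = q1) (h2 : x • q2 = q2) (h3 : x • q3 = q3) :
    q1 = q2 ∨ q1 = q3 ∨ q2 = q3 := by
  obtain ⟨p1, p2, -, hp⟩ := Nat.card_eq_two_iff.mp (hthree x hx)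
  have m : ∀ q : {q : Ω // x • q = q}, q = p1 ∨ q = p2 := by
    intro q
    have : q ∈ ({p1, p2} : Set _) := by rw [hp]; trivial
    simpa using this
  rcases m ⟨q1, h1⟩ with e1 | e1 <;> rcases m ⟨q2, h2⟩ with e2 | e2 <;>
    rcases m ⟨q3, h3⟩ with e3 | e3
  all_goals
    first
      | (left; exact congrArg Subtype.val (e1.trans e2.symm))
      | (right; left; exact congrArg Subtype.val (e1.trans e3.symm))
      | (right; right; exact congrArg Subtype.val (e2.trans e3.symm))

theorem fix2 (hthree : Three G Ω) {x : G} (hx : orderOf x = 3) {a : Ω} (_ha : x • a = a) :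
    ∃ e, e ≠ a ∧ x • e = e := by
  obtain ⟨p1, p2, hne, hp⟩ := Nat.card_eq_two_iff.mp (hthree x hx)
  by_cases h : (p1 : Ω) = a
  · exact ⟨p2, fun h2 => hne (Subtype.ext (h.trans h2.symm)), p2.2⟩
  · exact ⟨p1, h, p1.2⟩

theorem cube {x : G} (hx : orderOf x = 3) (q : Ω) : x • x • x • q = q := by
  have h3 : x ^ 3 = 1 := by rw [← hx]; exact pow_orderOf_eq_one x
  calc x • x • x • q = (x ^ 3) • q := by rw [pow_succ, pow_two, mul_smul, mul_smul]
    _ = q := by rw [h3, one_smul]

/-- existence: a 3-element fixing `a` and cycling `b, c, d`, with its second fixed point -/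
theorem ex_wit (hs : Sharp G Ω) (hthree : Three G Ω) {a b c d : Ω} (h : D4 a b c d) :
    ∃ (x : G) (e : Ω), orderOf x = 3 ∧ x • a = a ∧ x • b = c ∧ x • c = d ∧ x • d = b ∧
      x • e = e ∧ e ≠ a ∧ e ≠ b ∧ e ≠ c ∧ e ≠ d := by
  obtain ⟨h1, h2, h3, h4, h5, h6⟩ := h
  have hD : D4 a b c d := ⟨h1, h2, h3, h4, h5, h6⟩
  obtain ⟨x, xa, xb, xc, xd⟩ := sharp_ex hs hD
    (⟨h2, h3, h1, h6, h4.symm, h5.symm⟩ : D4 a c d b)
  have hx3 : x ^ 3 = 1 := by
    apply sharp_uniq hs hD
    all_goals rw [one_smul, pow_succ, pow_two, mul_smul, mul_smul]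
    · rw [xa, xa, xa]
    · rw [xb, xc, xd]
    · rw [xc, xd, xb]
    · rw [xd, xb, xc]
  have hx1 : x ≠ 1 := by
    intro hx1
    rw [hx1, one_smul] at xb
    exact h4 xb
  have : Fact (Nat.Prime 3) := ⟨by norm_num⟩
  have hx : orderOf x = 3 := orderOf_eq_prime hx3 hx1
  obtain ⟨e, hea, hxe⟩ := fix2 hthree hx xa
  refine ⟨x, e, hx, xa, xb, xc, xd, hxe, hea, ?_, ?_, ?_⟩
  · intro he
    rw [he, xb] at hxe
    exact h4 hxe.symm
  · intro he
    rw [he, xc] at hxe
    exact h6 hxe.symm
  · intro he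
    rw [he, xd] at hxe
    exact h5 hxe

/-- conjugation by an involution inverting `x` preserves the fixed points of `x` -/
theorem conj_fix {τ x : G} (h : τ * x * τ = x * x) (hτ : τ * τ = 1) {e : Ω} (hxe : x • e = e) :
    x • τ • e = τ • e := by
  have h1 : x * τ = τ * (x * x) := by
    rw [← h]
    calc x * τ = (τ * τ) * x * τ := by rw [hτ, one_mul]
      _ = τ * (τ * x * τ) := by simp only [mul_assoc]
  rw [← mul_smul, h1, mul_smul, mul_smul, hxe, hxe]

/-- an element of order 3 preserving `{a,b,c,d}`, fixing `a` and an outside point, cycles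
`b, c, d` -/
theorem cyc3 (hthree : Three G Ω) {a b c d : Ω} (h : D4 a b c d) {x : G} (hx : orderOf x = 3)
    (hP : ∀ q, (q = a ∨ q = b ∨ q = c ∨ q = d) →
      (x • q = a ∨ x • q = b ∨ x • q = c ∨ x • q = d))
    (xa : x • a = a) {e : Ω} (xe : x • e = e) (hea : e ≠ a) (heb : e ≠ b) (hec : e ≠ c)
    (hed : e ≠ d) :
    (x • b = c ∧ x • c = d ∧ x • d = b) ∨ (x • b = d ∧ x • d = c ∧ x • c = b) := by
  obtain ⟨h1, h2, h3, h4, h5, h6⟩ := h
  have inj := MulAction.injective (β := Ω) x
  have nb : x • b ≠ b := fun hb => by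
    rcases fix3 hthree hx xa hb xe with h | h | h
    · exact h1 h
    · exact hea h.symm
    · exact heb h.symm
  have nc : x • c ≠ c := fun hc => by
    rcases fix3 hthree hx xa hc xe with h | h | h
    · exact h2 h
    · exact hea h.symm
    · exact hec h.symm
  have nd : x • d ≠ d := fun hd => by
    rcases fix3 hthree hx xa hd xe with h | h | h
    · exact h3 h
    · exact hea h.symm
    · exact hed h.symm
  have nba : x • b ≠ a := fun hb => h1 (inj (xa.trans hb.symm))
  have nca : x • c ≠ a := fun hc => h2 (inj (xa.trans hc.symm))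
  have nda : x • d ≠ a := fun hd => h3 (inj (xa.trans hd.symm))
  have cb := cube hx b
  rcases hP b (Or.inr (Or.inl rfl)) with hb | hb | hb | hb
  · exact absurd hb nba
  · exact absurd hb nb
  · left
    rcases hP c (Or.inr (Or.inr (Or.inl rfl))) with hc | hc | hc | hc
    · exact absurd hc nca
    · exfalso
      rw [hb, hc, hb] at cb
      exact h4 cb.symm
    · exact absurd hc nc
    · refine ⟨hb, hc, ?_⟩
      rw [hb, hc] at cb
      exact cb
  · right
    rcases hP d (Or.inr (Or.inr (Or.inr rfl))) with hd | hd | hd | hd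
    · exact absurd hd nda
    · exfalso
      rw [hb, hd, hb] at cb
      exact h5 cb.symm
    · refine ⟨hb, hd, ?_⟩
      rw [hb, hd] at cb
      exact cb
    · exact absurd hd nd

theorem c1_caseA (hs : Sharp G Ω) (hthree : Three G Ω) {a b c d : Ω} (h : D4 a b c d)
    {x : G} (hx : orderOf x = 3) (xa : x • a = a) (xb : x • b = c) (xc : x • c = d)
    (xd : x • d = b) {e : Ω} (xe : x • e = e) (hea : e ≠ a)
    {x' : G} (hx' : orderOf x' = 3)
    (hP : ∀ q, (q = a ∨ q = b ∨ q = c ∨ q = d) →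
      (x' • q = a ∨ x' • q = b ∨ x' • q = c ∨ x' • q = d))
    (xa' : x' • a = a) {e' : Ω} (xe' : x' • e' = e') (hea' : e' ≠ a) (heb' : e' ≠ b)
    (hec' : e' ≠ c) (hed' : e' ≠ d) : e = e' := by
  rcases cyc3 hthree h hx' hP xa' xe' hea' heb' hec' hed' with ⟨yb, yc, yd⟩ | ⟨yb, yd, yc⟩
  · have hxx : x' = x := sharp_uniq hs h (xa'.trans xa.symm) (yb.trans xb.symm)
      (yc.trans xc.symm) (yd.trans xd.symm)
    rw [hxx] at xe'
    rcases fix3 hthree hx xa xe xe' with h | h | h
    · exact absurd h.symm hea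
    · exact absurd h.symm hea'
    · exact h
  · have hxx : x' = x * x := by
      apply sharp_uniq hs h
      all_goals simp only [mul_smul, xa, xb, xc, xd, xa', yb, yc, yd]
    have xe2 : x' • e = e := by rw [hxx, mul_smul, xe, xe]
    rcases fix3 hthree hx' xa' xe2 xe' with h | h | h
    · exact absurd h.symm hea
    · exact absurd h.symm hea'
    · exact h

theorem c1_caseB (hs : Sharp G Ω) (hthree : Three G Ω) {a b c d : Ω} (h : D4 a b c d)
    {x : G} (hx : orderOf x = 3) (xa : x • a = a) (xb : x • b = c) (xc : x • c = d)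
    (xd : x • d = b) {e : Ω} (xe : x • e = e) (hea : e ≠ a) (heb : e ≠ b)
    {x' : G} (hx' : orderOf x' = 3)
    (hP : ∀ q, (q = a ∨ q = b ∨ q = c ∨ q = d) →
      (x' • q = a ∨ x' • q = b ∨ x' • q = c ∨ x' • q = d))
    (xb' : x' • b = b) {e' : Ω} (xe' : x' • e' = e') (hea' : e' ≠ a) (heb' : e' ≠ b)
    (hec' : e' ≠ c) (hed' : e' ≠ d) : e = e' := by
  obtain ⟨h1, h2, h3, h4, h5, h6⟩ := h
  have hD : D4 a b c d := ⟨h1, h2, h3, h4, h5, h6⟩
  have hD' : D4 b a c d := ⟨h1.symm, h4, h5, h2, h3, h6⟩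
  obtain ⟨τ, ta, tb, tc, td⟩ := sharp_ex hs hD (⟨h1, h3, h2, h5, h4, h6.symm⟩ : D4 a b d c)
  have tt : τ * τ = 1 := by
    apply sharp_uniq hs hD
    all_goals simp only [mul_smul, one_smul, ta, tb, tc, td]
  have t1 : τ * x * τ = x * x := by
    apply sharp_uniq hs hD
    all_goals simp only [mul_smul, ta, tb, tc, td, xa, xb, xc, xd]
  have hP' : ∀ q, (q = b ∨ q = a ∨ q = c ∨ q = d) →
      (x' • q = b ∨ x' • q = a ∨ x' • q = c ∨ x' • q = d) := by
    intro q hq
    have := hP q (by tauto)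
    tauto
  have t2 : τ * x' * τ = x' * x' := by
    rcases cyc3 hthree hD' hx' hP' xb' xe' heb' hea' hec' hed' with ⟨ya, yc, yd⟩ | ⟨ya, yd, yc⟩
    · apply sharp_uniq hs hD
      all_goals simp only [mul_smul, ta, tb, tc, td, xb', ya, yc, yd]
    · apply sharp_uniq hs hD
      all_goals simp only [mul_smul, ta, tb, tc, td, xb', ya, yc, yd]
  have fe : τ • e = e := by
    have h0 := conj_fix t1 tt xe
    rcases fix3 hthree hx xa xe h0 with h | h | h
    · exact absurd h.symm hea
    · exfalso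
      have h' : τ • a = τ • e := ta.trans h
      exact hea (MulAction.injective τ h').symm
    · exact h.symm
  have fe' : τ • e' = e' := by
    have h0 := conj_fix t2 tt xe'
    rcases fix3 hthree hx' xb' xe' h0 with h | h | h
    · exact absurd h.symm heb'
    · exfalso
      have h' : τ • b = τ • e' := tb.trans h
      exact heb' (MulAction.injective τ h').symm
    · exact h.symm
  by_contra hne
  have hD2 : D4 a b e e' := ⟨h1, fun h => hea h.symm, fun h => hea' h.symm,
    fun h => heb h.symm, fun h => heb' h.symm, hne⟩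
  have h1' : τ = 1 := by
    apply sharp_uniq hs hD2
    all_goals rw [one_smul]
    · exact ta
    · exact tb
    · exact fe
    · exact fe'
  rw [h1', one_smul] at tc
  exact h6 tc

/-- `x` is a witness for the set `s` with outside fixed point `e` -/
def Wit (s : Finset Ω) (x : G) (e : Ω) : Prop :=
  orderOf x = 3 ∧ (∀ q ∈ s, x • q ∈ s) ∧ e ∉ s ∧ x • e = e

/-- normal form of a witness on a 4-set -/
theorem nf [DecidableEq Ω] (hthree : Three G Ω) {A : Finset Ω} (hA : A.card = 4) {x : G}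
    {e : Ω} (hw : Wit A x e) :
    ∃ a b c d, D4 a b c d ∧ (∀ q, q ∈ A ↔ q = a ∨ q = b ∨ q = c ∨ q = d) ∧
      x • a = a ∧ x • b = c ∧ x • c = d ∧ x • d = b := by
  obtain ⟨hx, hP, he, hxe⟩ := hw
  have inj := MulAction.injective (β := Ω) x
  have h1 : ∃ q0 ∈ A, x • q0 ≠ q0 := by
    by_contra hcon0
    have hcon : ∀ q ∈ A, x • q = q := fun q hq => by_contra (fun h => hcon0 ⟨q, hq, h⟩)
    obtain ⟨p, hp, q, hq, hpq⟩ := Finset.one_lt_card.mp (by rw [hA]; norm_num : 1 < A.card)
    rcases fix3 hthree hx (hcon p hp) (hcon q hq) hxe with h | h | h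
    · exact hpq h
    · exact he (h ▸ hp)
    · exact he (h ▸ hq)
  obtain ⟨b, hbA, hb⟩ := h1
  obtain ⟨c, hc⟩ : ∃ c, x • b = c := ⟨_, rfl⟩
  obtain ⟨d, hd⟩ : ∃ d, x • c = d := ⟨_, rfl⟩
  have hdb : x • d = b := by rw [← hd, ← hc]; exact cube hx b
  have hcA : c ∈ A := hc ▸ hP b hbA
  have hdA : d ∈ A := hd ▸ hP c hcA
  have hbc : b ≠ c := fun h => hb (hc.trans h.symm)
  have hcd : c ≠ d := fun h => hbc (inj (hc.trans (h.trans hd.symm)))
  have hbd : b ≠ d := fun h => hb ((congrArg (x • ·) h).trans hdb)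
  have hO : ({b, c, d} : Finset Ω) ⊆ A := by
    intro q hq
    simp only [Finset.mem_insert, Finset.mem_singleton] at hq
    rcases hq with rfl | rfl | rfl <;> assumption
  have hOc : ({b, c, d} : Finset Ω).card = 3 :=
    Finset.card_eq_three.mpr ⟨b, c, d, hbc, hbd, hcd, rfl⟩
  have hdiff : (A \ {b, c, d}).card = 1 := by
    rw [Finset.card_sdiff_of_subset hO, hA, hOc]
  obtain ⟨a, ha⟩ := Finset.card_eq_one.mp hdiff
  have haM : a ∈ A \ {b, c, d} := by rw [ha]; exact Finset.mem_singleton_self a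
  rw [Finset.mem_sdiff] at haM
  obtain ⟨haA, haO⟩ := haM
  simp only [Finset.mem_insert, Finset.mem_singleton, not_or] at haO
  obtain ⟨hab, hac, had⟩ := haO
  have hmem : ∀ q, q ∈ A ↔ q = a ∨ q = b ∨ q = c ∨ q = d := by
    intro q
    constructor
    · intro hq
      by_cases hqO : q ∈ ({b, c, d} : Finset Ω)
      · simp only [Finset.mem_insert, Finset.mem_singleton] at hqO
        exact Or.inr hqO
      · have hq' : q ∈ A \ {b, c, d} := Finset.mem_sdiff.mpr ⟨hq, hqO⟩
        rw [ha, Finset.mem_singleton] at hq'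
        exact Or.inl hq'
    · rintro (h | h | h | h)
      · rw [h]; exact haA
      · rw [h]; exact hbA
      · rw [h]; exact hcA
      · rw [h]; exact hdA
  refine ⟨a, b, c, d, ⟨hab, hac, had, hbc, hbd, hcd⟩, hmem, ?_, hc, hd, hdb⟩
  rcases (hmem _).mp (hP a haA) with h | h | h | h
  · exact h
  · exact absurd (inj (h.trans hdb.symm)) had
  · exact absurd (inj (h.trans hc.symm)) hab
  · exact absurd (inj (h.trans hd.symm)) hac

/-- (C1) two witnesses on the same 4-set have the same outside fixed point -/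
theorem c1 [DecidableEq Ω] (hs : Sharp G Ω) (hthree : Three G Ω) {A : Finset Ω}
    (hA : A.card = 4) {x x' : G} {e e' : Ω} (hw : Wit A x e) (hw' : Wit A x' e') : e = e' := by
  obtain ⟨a, b, c, d, hD, hmem, xa, xb, xc, xd⟩ := nf hthree hA hw
  obtain ⟨a', b', c', d', -, hmem', xa', -, -, -⟩ := nf hthree hA hw'
  obtain ⟨hx, hP, he, hxe⟩ := hw
  obtain ⟨hx', hP', he', hxe'⟩ := hw'
  have hea : e ≠ a := fun h => he ((hmem e).mpr (Or.inl h))
  have heb : e ≠ b := fun h => he ((hmem e).mpr (Or.inr (Or.inl h)))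
  have hec : e ≠ c := fun h => he ((hmem e).mpr (Or.inr (Or.inr (Or.inl h))))
  have hed : e ≠ d := fun h => he ((hmem e).mpr (Or.inr (Or.inr (Or.inr h))))
  have hea' : e' ≠ a := fun h => he' ((hmem e').mpr (Or.inl h))
  have heb' : e' ≠ b := fun h => he' ((hmem e').mpr (Or.inr (Or.inl h)))
  have hec' : e' ≠ c := fun h => he' ((hmem e').mpr (Or.inr (Or.inr (Or.inl h))))
  have hed' : e' ≠ d := fun h => he' ((hmem e').mpr (Or.inr (Or.inr (Or.inr h))))
  have hPP : ∀ q, (q = a ∨ q = b ∨ q = c ∨ q = d) →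
      (x' • q = a ∨ x' • q = b ∨ x' • q = c ∨ x' • q = d) :=
    fun q hq => (hmem _).mp (hP' q ((hmem q).mpr hq))
  have hPc : ∀ q, (q = a ∨ q = c ∨ q = d ∨ q = b) →
      (x' • q = a ∨ x' • q = c ∨ x' • q = d ∨ x' • q = b) := by
    intro q hq
    have := hPP q (by tauto)
    tauto
  have hPd : ∀ q, (q = a ∨ q = d ∨ q = b ∨ q = c) →
      (x' • q = a ∨ x' • q = d ∨ x' • q = b ∨ x' • q = c) := by
    intro q hq
    have := hPP q (by tauto)
    tauto
  have ha'A : a' ∈ A := (hmem' a').mpr (Or.inl rfl)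
  obtain ⟨h1, h2, h3, h4, h5, h6⟩ := hD
  rcases (hmem a').mp ha'A with h | h | h | h
  · rw [h] at xa'
    exact c1_caseA hs hthree ⟨h1, h2, h3, h4, h5, h6⟩ hx xa xb xc xd hxe hea hx' hPP xa' hxe'
      hea' heb' hec' hed'
  · rw [h] at xa'
    exact c1_caseB hs hthree ⟨h1, h2, h3, h4, h5, h6⟩ hx xa xb xc xd hxe hea heb hx' hPP xa'
      hxe' hea' heb' hec' hed'
  · rw [h] at xa'
    exact c1_caseB hs hthree (⟨h2, h3, h1, h6, h4.symm, h5.symm⟩ : D4 a c d b) hx xa xc xd xb
      hxe hea hec hx' hPc xa' hxe' hea' hec' hed' heb'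
  · rw [h] at xa'
    exact c1_caseB hs hthree (⟨h3, h1, h2, h5.symm, h6.symm, h4⟩ : D4 a d b c) hx xa xd xb xc
      hxe hea hed hx' hPd xa' hxe' hea' hed' heb' hec'

/-- (E) existence of a witness on a 4-set fixing a prescribed point of it -/
theorem ex_wit' [DecidableEq Ω] (hs : Sharp G Ω) (hthree : Three G Ω) {s : Finset Ω}
    (hsc : s.card = 4) {a : Ω} (ha : a ∈ s) : ∃ (x : G) (e : Ω), Wit s x e ∧ x • a = a := by
  have h3 : (s.erase a).card = 3 := by rw [Finset.card_erase_of_mem ha, hsc]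
  obtain ⟨p, q, r, hpq, hpr, hqr, hpqr⟩ := Finset.card_eq_three.mp h3
  have hp : p ∈ s.erase a := by rw [hpqr]; simp
  have hq : q ∈ s.erase a := by rw [hpqr]; simp
  have hr : r ∈ s.erase a := by rw [hpqr]; simp
  have hmem : ∀ t, t ∈ s ↔ t = a ∨ t = p ∨ t = q ∨ t = r := by
    intro t
    constructor
    · intro ht
      by_cases hta : t = a
      · exact Or.inl hta
      · have ht' : t ∈ s.erase a := Finset.mem_erase.mpr ⟨hta, ht⟩
        rw [hpqr] at ht'
        simp only [Finset.mem_insert, Finset.mem_singleton] at ht'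
        exact Or.inr ht'
    · rintro (h | h | h | h)
      · rw [h]; exact ha
      · rw [h]; exact Finset.mem_of_mem_erase hp
      · rw [h]; exact Finset.mem_of_mem_erase hq
      · rw [h]; exact Finset.mem_of_mem_erase hr
  have hD : D4 a p q r := ⟨(Finset.ne_of_mem_erase hp).symm, (Finset.ne_of_mem_erase hq).symm,
    (Finset.ne_of_mem_erase hr).symm, hpq, hpr, hqr⟩
  obtain ⟨x, e, hx, xa, xp, xq, xr, xe, hea, hep, heq, her⟩ := ex_wit hs hthree hD
  refine ⟨x, e, ⟨hx, ?_, ?_, xe⟩, xa⟩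
  · intro t ht
    rcases (hmem t).mp ht with h | h | h | h
    · rw [h, xa]; exact ha
    · rw [h, xp]; exact (hmem _).mpr (Or.inr (Or.inr (Or.inl rfl)))
    · rw [h, xq]; exact (hmem _).mpr (Or.inr (Or.inr (Or.inr rfl)))
    · rw [h, xr]; exact (hmem _).mpr (Or.inr (Or.inl rfl))
  · intro hes
    rcases (hmem e).mp hes with h | h | h | h
    · exact hea h
    · exact hep h
    · exact heq h
    · exact her h

/-- (C2) every 4-subset of a block is witnessed, with the same block -/
theorem c2 [DecidableEq Ω] (hs : Sharp G Ω) (hthree : Three G Ω) {A : Finset Ω}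
    (hA : A.card = 4) {x : G} {e : Ω} (hw : Wit A x e) {s : Finset Ω} (hsc : s.card = 4)
    (hsub : s ⊆ insert e A) : ∃ (x' : G) (e' : Ω), Wit s x' e' ∧ insert e' s = insert e A := by
  by_cases hsA : s = A
  · subst hsA
    exact ⟨x, e, hw, rfl⟩
  have he : e ∉ A := hw.2.2.1
  have hc5 : (insert e A).card = 5 := by rw [Finset.card_insert_of_notMem he, hA]
  have hd1 : (insert e A \ s).card = 1 := by rw [Finset.card_sdiff_of_subset hsub, hc5, hsc]
  obtain ⟨a', ha'⟩ := Finset.card_eq_one.mp hd1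
  have ha'M : a' ∈ insert e A \ s := by rw [ha']; exact Finset.mem_singleton_self a'
  obtain ⟨ha'I, ha's⟩ := Finset.mem_sdiff.mp ha'M
  have hcompl : ∀ q, q ∈ insert e A → q ≠ a' → q ∈ s := by
    intro q hq hne
    by_contra hqs
    have hq' : q ∈ insert e A \ s := Finset.mem_sdiff.mpr ⟨hq, hqs⟩
    rw [ha', Finset.mem_singleton] at hq'
    exact hne hq'
  have ha'e : a' ≠ e := by
    intro h
    apply hsA
    apply Finset.eq_of_subset_of_card_le
    · intro q hq
      rcases Finset.mem_insert.mp (hsub hq) with h' | h'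
      · exfalso
        rw [h', ← h] at hq
        exact ha's hq
      · exact h'
    · rw [hA, hsc]
  have ha'A : a' ∈ A := (Finset.mem_insert.mp ha'I).resolve_left ha'e
  have hes : e ∈ s := hcompl e (Finset.mem_insert_self e A) (fun h => ha'e h.symm)
  obtain ⟨x'', e'', hw'', xa''⟩ := ex_wit' hs hthree hA ha'A
  have hee : e = e'' := c1 hs hthree hA hw hw''
  obtain ⟨hx'', hP'', he'', hxe''⟩ := hw''
  rw [← hee] at hxe''
  refine ⟨x'', a', ⟨hx'', ?_, ha's, xa''⟩, ?_⟩
  · intro q hq
    rcases Finset.mem_insert.mp (hsub hq) with h | h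
    · rw [h, hxe'']; exact hes
    · apply hcompl
      · exact Finset.mem_insert_of_mem (hP'' q h)
      · intro h2
        have hqa : q = a' := MulAction.injective x'' (h2.trans xa''.symm)
        rw [hqa] at hq
        exact ha's hq
  · apply Finset.eq_of_subset_of_card_le
    · intro q hq
      rcases Finset.mem_insert.mp hq with h | h
      · rw [h]; exact ha'I
      · exact hsub h
    · rw [hc5, Finset.card_insert_of_notMem ha's, hsc]

end

end Cfsg.Agent.Lib.Helper67.M11U
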