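import Cfsg.Agent.Lib.Helper93.M11U.Defs
import Cfsg.Agent.Lib.Helper67.M11U.SteinerCore

/-!
# S0420 package [STEINER]: a sharply 4-transitive group in which the elements of order 3 fix
exactly two points preserves a Steiner system `S(4, 5, Ω)`
-/

set_option autoImplicit false

namespace Cfsg.Agent.Lib.Helper67.M11U

universe u

theorem pkgSteiner : Cfsg.Agent.Lib.Helper93.M11U.PkgSteiner.{u} := by
  intro G _ _ Ω _ _ hs hthree
  classical
  refine ⟨{blk | ∃ (A : Finset Ω) (x : G) (e : Ω), A.card = 4 ∧ Wit A x e ∧ blk = insert e A},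
    ⟨?_, ?_⟩, ?_⟩
  · rintro b ⟨A, x, e, hA, hw, rfl⟩
    rw [Finset.card_insert_of_notMem hw.2.2.1, hA]
  · intro s hsc
    have hne : s.Nonempty := by rw [← Finset.card_pos, hsc]; norm_num
    obtain ⟨a, ha⟩ := hne
    obtain ⟨x, e, hw, -⟩ := ex_wit' hs hthree hsc ha
    refine ⟨insert e s, ⟨⟨s, x, e, hsc, hw, rfl⟩, Finset.subset_insert e s⟩, ?_⟩
    rintro b ⟨⟨A, x1, e1, hA, hw1, rfl⟩, hsub⟩
    obtain ⟨x2, e2, hw2, h2⟩ := c2 hs hthree hA hw1 hsc hsub
    rw [← h2, c1 hs hthree hsc hw2 hw]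
  · rintro g b ⟨A, x, e, hA, ⟨hx, hP, he, hxe⟩, rfl⟩
    refine ⟨A.map (MulAction.toPerm g).toEmbedding, g * x * g⁻¹, g • e, ?_, ⟨?_, ?_, ?_, ?_⟩, ?_⟩
    · rw [Finset.card_map, hA]
    · have h0 := orderOf_injective (MulAut.conj g).toMonoidHom (MulAut.conj g).injective x
      rw [← hx, ← h0]
      rfl
    · intro q hq
      obtain ⟨p, hp, rfl⟩ := Finset.mem_map.mp hq
      refine Finset.mem_map.mpr ⟨x • p, hP p hp, ?_⟩
      simp [mul_smul]
    · intro h
      obtain ⟨p, hp, hpe⟩ := Finset.mem_map.mp h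
      have hpe' : p = e := MulAction.injective g hpe
      exact he (hpe' ▸ hp)
    · simp [mul_smul, hxe]
    · rw [Finset.map_insert]
      rfl

example : Cfsg.Agent.Lib.Helper93.M11U.PkgSteiner.{3} := pkgSteiner
example : Cfsg.Agent.Lib.Helper93.M11U.PkgSteiner.{0} := pkgSteiner

end Cfsg.Agent.Lib.Helper67.M11U
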